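import Mathlib
import Cfsg.Agent.H184.FC.Types

/-!
# S5764, L-C3a: `StmtC3` for `dim_K V = e s`, `s ≥ 2`, `(e, s) ≠ (2, 2)` (helper184)
-/

set_option autoImplicit false
set_option linter.unusedSectionVars false

namespace Cfsg.Agent.H184.FC

open Module Cfsg.Agent.H198.FC

universe u v w

section Y

variable {K : Type u} [Field K] {V : Type v} [AddCommGroup V] [Module K V]
  {F : Type w} [Field F] [Algebra K F] [Module F V] [IsScalarTower K F V] {s : ℕ}

/-- the `τ`-semilinear map with given values on a basis -/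
noncomputable def Y (b : Basis (Fin s) F V) (τ : F ≃ₐ[K] F) (w : Fin s → V) : R K V where
  toFun v := ∑ i, τ (b.repr v i) • w i
  map_add' v v' := by
    rw [← Finset.sum_add_distrib]
    exact Finset.sum_congr rfl fun i _ => by rw [map_add, Finsupp.add_apply, map_add, add_smul]
  map_smul' k v := by
    rw [RingHom.id_apply, Finset.smul_sum]
    refine Finset.sum_congr rfl fun i _ => ?_
    rw [← IsScalarTower.algebraMap_smul F k v, map_smul, Finsupp.smul_apply, smul_eq_mul, map_mul, AlgEquiv.commutes,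
      mul_smul, IsScalarTower.algebraMap_smul]

variable {b : Basis (Fin s) F V} {τ : F ≃ₐ[K] F} {w : Fin s → V}

theorem Y_apply (v : V) : Y b τ w v = ∑ i, τ (b.repr v i) • w i := rfl

theorem Y_basis (j : Fin s) : Y b τ w (b j) = w j := by
  rw [Y_apply, Finset.sum_eq_single j]
  · rw [b.repr_self, Finsupp.single_eq_same, map_one, one_smul]
  · intro i _ hi
    rw [b.repr_self, Finsupp.single_eq_of_ne hi, map_zero, zero_smul]
  · exact fun h => absurd (Finset.mem_univ _) h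

theorem Y_smul (a : F) (v : V) : Y b τ w (a • v) = τ a • Y b τ w v := by
  rw [Y_apply, Y_apply, Finset.smul_sum]
  exact Finset.sum_congr rfl fun i _ => by
    rw [map_smul, Finsupp.smul_apply, smul_eq_mul, map_mul, mul_smul]

theorem Y_ty {φ : F →ₐ[K] R K V} (hφ : ∀ a v, φ a v = a • v) : Ty φ τ (Y b τ w) := by
  intro a
  ext v
  change Y b τ w (φ a v) = φ (τ a) (Y b τ w v)
  rw [hφ, hφ, Y_smul]

theorem Y_nil (h : Fin s → ℕ) (hw : ∀ i, w i ∈ Submodule.span F (b '' {j | h j < h i})) : IsNilpotent (Y b τ w) := by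
  have h1 : ∀ k v, v ∈ Submodule.span F (b '' {j | h j < k}) → (Y b τ w ^ k) v = 0 := by
    intro k
    induction k with
    | zero =>
      intro v hv
      have : {j | h j < 0} = (∅ : Set (Fin s)) := by ext j; simp
      rw [this, Set.image_empty, Submodule.span_empty, Submodule.mem_bot] at hv
      rw [hv, map_zero]
    | succ k ih =>
      intro v hv
      rw [pow_succ]
      change (Y b τ w ^ k) (Y b τ w v) = 0
      apply ih
      induction hv using Submodule.span_induction with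
      | mem x hx =>
        obtain ⟨j, hj, rfl⟩ := hx
        rw [Y_basis]
        refine Submodule.span_mono (Set.image_mono ?_) (hw j)
        intro i hi
        exact lt_of_lt_of_le (show h i < h j from hi) (Nat.lt_succ_iff.1 hj)
      | zero => rw [map_zero]; exact Submodule.zero_mem _
      | add x y _ _ hx hy => rw [map_add]; exact Submodule.add_mem _ hx hy
      | smul a x _ hx => rw [Y_smul]; exact Submodule.smul_mem _ _ hx
  refine ⟨Finset.univ.sup h + 1, LinearMap.ext fun v => h1 _ v ?_⟩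
  have h2 : {j | h j < Finset.univ.sup h + 1} = Set.univ := by
    ext j
    simp only [Set.mem_ofPred_eq, Set.mem_univ, iff_true]
    exact Nat.lt_succ_of_le (Finset.le_sup (Finset.mem_univ j))
  rw [h2, Set.image_univ, b.span_eq]
  exact Submodule.mem_top

/-- the vectors `e_j` -/
noncomputable def ee (b : Basis (Fin s) F V) (j : ℕ) : V := if h : j < s then b ⟨j, h⟩ else 0

theorem ee_of_lt {j : ℕ} (h : j < s) : ee b j = b ⟨j, h⟩ := dif_pos h

theorem ee_coe (j : Fin s) : ee b j = b j := ee_of_lt j.2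

theorem ee_of_le {j : ℕ} (h : s ≤ j) : ee b j = 0 := dif_neg (not_lt.2 h)

theorem ee_ne_zero {j : ℕ} (h : j < s) : ee b j ≠ 0 := by
  rw [ee_of_lt h]
  exact b.ne_zero _

theorem ee_mem {j : ℕ} {P : Set (Fin s)} (h : ∀ hj : j < s, ⟨j, hj⟩ ∈ P) : ee b j ∈ Submodule.span F (b '' P) := by
  by_cases hj : j < s
  · rw [ee_of_lt hj]
    exact Submodule.subset_span ⟨_, h hj, rfl⟩
  · rw [ee_of_le (not_lt.1 hj)]
    exact Submodule.zero_mem _

variable (b τ)

/-- `e_j ↦ e_{j-1}` -/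
noncomputable def Y1 : R K V := Y b τ fun j => if (j : ℕ) = 0 then 0 else ee b (j - 1)

/-- `e_j ↦ e_{j+1}` -/
noncomputable def Y2 : R K V := Y b τ fun j => ee b (j + 1)

/-- `e_1 ↦ γ e_0`, `e_2 ↦ e_0` -/
noncomputable def Y3 (γ : F) : R K V := Y b τ fun j => if (j : ℕ) = 1 then γ • ee b 0 else if (j : ℕ) = 2 then ee b 0 else 0

variable {b τ}

theorem Y1_nil : IsNilpotent (Y1 b τ) := by
  refine Y_nil (fun j => j) fun j => ?_
  by_cases h : (j : ℕ) = 0
  · rw [if_pos h]
    exact Submodule.zero_mem _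
  · rw [if_neg h]
    exact ee_mem fun hj => by
      change (j : ℕ) - 1 < j
      omega

theorem Y2_nil : IsNilpotent (Y2 b τ) := by
  refine Y_nil (fun j => s - j) fun j => ?_
  exact ee_mem fun hj => by
    change s - ((j : ℕ) + 1) < s - j
    omega

theorem Y3_nil {γ : F} : IsNilpotent (Y3 b τ γ) := by
  refine Y_nil (fun j => j) fun j => ?_
  have h0 : (j : ℕ) ≠ 0 → ee b 0 ∈ Submodule.span F (b '' {i : Fin s | (i : ℕ) < (j : ℕ)}) := fun hj => ee_mem fun _ => by
    change 0 < (j : ℕ)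
    omega
  split_ifs with h h'
  · exact Submodule.smul_mem _ _ (h0 (by omega))
  · exact h0 (by omega)
  · exact Submodule.zero_mem _

theorem Y1_zero : Y1 b τ (ee b 0) = 0 := by
  by_cases h : 0 < s
  · rw [ee_of_lt h, Y1, Y_basis, if_pos rfl]
  · rw [ee_of_le (not_lt.1 h), map_zero]

theorem Y1_succ {j : ℕ} (h : j + 1 < s) : Y1 b τ (ee b (j + 1)) = ee b j := by
  rw [ee_of_lt h, Y1, Y_basis, if_neg (Nat.succ_ne_zero j)]
  rfl

theorem Y2_succ (j : ℕ) : Y2 b τ (ee b j) = ee b (j + 1) := by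
  by_cases h : j < s
  · rw [ee_of_lt h, Y2, Y_basis]
  · rw [ee_of_le (not_lt.1 h), map_zero, ee_of_le (by omega)]

theorem Y3_one {γ : F} (h : 1 < s) : Y3 b τ γ (ee b 1) = γ • ee b 0 := by
  rw [ee_of_lt h, Y3, Y_basis, if_pos rfl]

theorem Y3_two {γ : F} (h : 2 < s) : Y3 b τ γ (ee b 2) = ee b 0 := by
  rw [ee_of_lt h, Y3, Y_basis, if_neg (by norm_num), if_pos rfl]

theorem Y1_Y3 {γ : F} : Y1 b τ * Y3 b τ γ = 0 := by
  ext v
  change Y1 b τ (Y3 b τ γ v) = 0
  rw [Y3, Y_apply, map_sum]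
  refine Finset.sum_eq_zero fun i _ => ?_
  rw [Y1, Y_smul]
  change τ (τ (b.repr v i)) • Y1 b τ _ = 0
  split_ifs
  · rw [Y1, Y_smul]
    change _ • _ • Y1 b τ _ = 0
    rw [Y1_zero, smul_zero, smul_zero]
  · rw [Y1_zero, smul_zero]
  · rw [map_zero, smul_zero]

theorem Y1_ker {v : V} (h : Y1 b τ v = 0) : ∃ c : F, v = c • ee b 0 := by
  rcases Nat.eq_zero_or_pos s with h0 | h0
  · subst h0
    refine ⟨0, ?_⟩
    rw [← b.sum_repr v, Finset.univ_eq_empty, Finset.sum_empty, zero_smul]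
  have h1 : ∀ i : Fin s, (i : ℕ) ≠ 0 → b.repr v i = 0 := by
    intro i hi
    have h2 := congrArg (fun x => b.repr x ⟨i - 1, by omega⟩) h
    rw [Y1, Y_apply, map_sum, Finsupp.finsetSum_apply, map_zero, Finsupp.zero_apply, Finset.sum_eq_single i] at h2
    · rw [if_neg hi, ee_of_lt (by omega), map_smul, b.repr_self, Finsupp.smul_apply, Finsupp.single_eq_same,
        smul_eq_mul, mul_one] at h2
      exact (map_eq_zero_iff τ τ.injective).1 h2
    · intro j _ hj
      by_cases hj0 : (j : ℕ) = 0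
      · rw [if_pos hj0, smul_zero, map_zero, Finsupp.zero_apply]
      · rw [if_neg hj0, ee_of_lt (by omega), map_smul, b.repr_self, Finsupp.smul_apply, Finsupp.single_eq_of_ne,
          smul_zero]
        intro e
        have := congrArg Fin.val e
        simp only at this
        exact hj (Fin.ext (by omega))
    · exact fun h => absurd (Finset.mem_univ _) h
  refine ⟨b.repr v ⟨0, h0⟩, ?_⟩
  rw [ee_of_lt h0]
  conv_lhs => rw [← b.sum_repr v]
  rw [Finset.sum_eq_single (⟨0, h0⟩ : Fin s)]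
  · intro j _ hj
    rw [h1 j (fun e => hj (Fin.ext e)), zero_smul]
  · exact fun h => absurd (Finset.mem_univ _) h

end Y

section

variable {K : Type u} [Field K] [Finite K] {V : Type v} [AddCommGroup V] [Module K V] [Module.Finite K V]
  {F : Type w} [Field F] [Algebra K F] [Module.Finite K F]

theorem exists_gal (he : (finrank K F).Prime) : ∃ τ : F ≃ₐ[K] F, τ ≠ 1 ∧ (τ * τ = 1 → finrank K F = 2) ∧
    (∀ c, τ c = c → ∃ k, c = algebraMap K F k) ∧ (τ * τ ≠ 1 → ∀ c, τ (τ c) = c → τ c = c) := by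
  have hF : Finite F := Module.finite_of_finite K
  have hgal : IsGalois K F := inferInstance
  have hc : Nat.card (F ≃ₐ[K] F) = finrank K F := IsGalois.card_aut_eq_finrank K F
  have hfin : Finite (F ≃ₐ[K] F) := inferInstance
  have hn : Nontrivial (F ≃ₐ[K] F) := by
    rw [← Finite.one_lt_card_iff_nontrivial, hc]
    exact he.one_lt
  have hp : Fact (Nat.card (F ≃ₐ[K] F)).Prime := ⟨hc ▸ he⟩
  obtain ⟨τ, hτ⟩ := exists_ne (1 : F ≃ₐ[K] F)
  have key : ∀ τ : F ≃ₐ[K] F, τ ≠ 1 → ∀ c, τ c = c → ∃ k, c = algebraMap K F k := by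
    intro τ hτ c hcc
    have h1 : Subgroup.zpowers τ = ⊤ := zpowers_eq_top_of_prime_card (p := Nat.card (F ≃ₐ[K] F)) rfl hτ
    have h2 : ∀ σ : F ≃ₐ[K] F, σ c = c := by
      intro σ
      have h3 : σ ∈ Subgroup.zpowers τ := by rw [h1]; exact Subgroup.mem_top _
      have h4 : Subgroup.zpowers τ ≤ MulAction.stabilizer (F ≃ₐ[K] F) c := by
        rw [Subgroup.zpowers_le]
        exact hcc
      exact h4 h3
    have h5 : c ∈ (⊥ : IntermediateField K F) := (IsGalois.mem_bot_iff_fixed c).2 h2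
    obtain ⟨k, hk⟩ := IntermediateField.mem_bot.1 h5
    exact ⟨k, hk.symm⟩
  refine ⟨τ, hτ, fun h => ?_, key τ hτ, fun h c hcc => ?_⟩
  · have h1 : orderOf τ = 2 := orderOf_eq_prime (by rw [pow_two, h]) hτ
    have h2 : orderOf τ = Nat.card (F ≃ₐ[K] F) := orderOf_eq_card_of_zpowers_eq_top
      (zpowers_eq_top_of_prime_card (p := Nat.card (F ≃ₐ[K] F)) rfl hτ)
    rw [← hc, ← h2, h1]
  · obtain ⟨k, hk⟩ := key (τ * τ) h c hcc
    rw [hk, AlgEquiv.commutes]

/-- the semilinear map commuting with `y_1, y_2, y_3` is a scalar -/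
theorem semi_core [Module F V] [IsScalarTower K F V] {s : ℕ} (b : Basis (Fin s) F V) {τ : F ≃ₐ[K] F}
    (hs : 2 ≤ s) (h2s : τ * τ = 1 → 3 ≤ s) (hfix : ∀ c, τ c = c → ∃ k, c = algebraMap K F k)
    (hodd : τ * τ ≠ 1 → ∀ c, τ (τ c) = c → τ c = c) {γ : F} (hγ0 : γ ≠ 0)
    (hγ : ∀ ρ : F ≃+* F, ρ γ = γ → ∀ a, ρ a = a)
    {g : Equiv.Perm V} (hg0 : ∀ v w, g (v + w) = g v + g w) {ρ : F ≃+* F} (hρ : ∀ (a : F) v, g (a • v) = ρ a • g v)
    (h1 : ∀ v, Y1 b τ (g v) = g (Y1 b τ v)) (h2 : ∀ v, Y2 b τ (g v) = g (Y2 b τ v))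
    (h3 : ∀ v, Y3 b τ γ (g v) = g (Y3 b τ γ v)) : ∃ k : K, k ≠ 0 ∧ ∀ v, g v = k • v := by
  have hg00 : g 0 = 0 := by
    have := hg0 0 0
    rw [add_zero] at this
    exact left_eq_add.1 this
  obtain ⟨c, hc⟩ := Y1_ker (b := b) (τ := τ) (v := g (ee b 0)) (by rw [h1, Y1_zero, hg00])
  have hc0 : c ≠ 0 := by
    rintro rfl
    rw [zero_smul, ← hg00] at hc
    exact ee_ne_zero (by omega) (g.injective hc)
  have hsm : ∀ {w : Fin s → V} {a : F} {v : V}, Y b τ w (a • v) = τ a • Y b τ w v := Y_smul _ _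
  have e1 : g (ee b 1) = τ c • ee b 1 := by
    have := h2 (ee b 0)
    rw [Y2_succ, hc, Y2, hsm] at this
    rw [← this]
    exact congrArg (τ c • ·) (Y2_succ 0)
  have e2 : g (ee b 2) = τ (τ c) • ee b 2 := by
    have := h2 (ee b 1)
    rw [Y2_succ, e1, Y2, hsm] at this
    rw [← this]
    exact congrArg (τ (τ c) • ·) (Y2_succ 1)
  have hcan : ∀ {a a' : F}, a • ee b 0 = a' • ee b 0 → a = a' := fun {a a'} h =>
    smul_left_injective F (ee_ne_zero (b := b) (j := 0) (by omega)) h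
  have f1 : τ (τ c) = c := by
    have := h1 (ee b 1)
    rw [Y1_succ (by omega), e1, hc, Y1, hsm] at this
    apply hcan
    rw [← this]
    exact congrArg (τ (τ c) • ·) (Y1_succ (b := b) (j := 0) (by omega)).symm
  have f2 : τ c = c := by
    by_cases hs3 : 3 ≤ s
    · have := h3 (ee b 2)
      rw [Y3_two (by omega), e2, hc, Y3, hsm] at this
      have h4 : τ (τ (τ c)) = c := by
        apply hcan
        rw [← this]
        exact congrArg (τ (τ (τ c)) • ·) (Y3_two (γ := γ) (by omega)).symm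
      rwa [f1] at h4
    · exact hodd (fun h => hs3 (h2s h)) c f1
  have f3 : ρ γ = γ := by
    have := h3 (ee b 1)
    rw [Y3_one (by omega), e1, hρ, hc, Y3, hsm, f2, f2, smul_smul] at this
    have h4 : ρ γ * c = c * γ := by
      apply hcan
      rw [← this, mul_smul]
      exact congrArg (c • ·) (Y3_one (b := b) (τ := τ) (γ := γ) (by omega))
    rw [mul_comm c] at h4
    exact mul_right_cancel₀ hc0 h4
  have hρ1 := hγ ρ f3
  have e3 : ∀ j, g (ee b j) = c • ee b j := by
    intro j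
    induction j with
    | zero => exact hc
    | succ j ih =>
      have := h2 (ee b j)
      rw [Y2_succ, ih, Y2, hsm, f2] at this
      rw [← this]
      exact congrArg (c • ·) (Y2_succ j)
  have hgs : ∀ (t : Finset (Fin s)) (x : Fin s → V), g (∑ i ∈ t, x i) = ∑ i ∈ t, g (x i) := by
    intro t x
    classical
    induction t using Finset.induction_on with
    | empty => rw [Finset.sum_empty, Finset.sum_empty, hg00]
    | insert a t ha ih => rw [Finset.sum_insert ha, Finset.sum_insert ha, hg0, ih]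
  have e4 : ∀ v, g v = c • v := by
    intro v
    conv_lhs => rw [← b.sum_repr v]
    conv_rhs => rw [← b.sum_repr v]
    rw [hgs, Finset.smul_sum]
    refine Finset.sum_congr rfl fun i _ => ?_
    rw [hρ, hρ1, ← ee_coe, e3, smul_comm]
  obtain ⟨k, rfl⟩ := hfix c f2
  refine ⟨k, ?_, fun v => by rw [e4, IsScalarTower.algebraMap_smul]⟩
  rintro rfl
  exact hc0 (map_zero _)

/-- `StmtC3`, the cases `s ≥ 2`, for an abstract field -/
theorem c3a_aux (hSN : StmtSN.{u, v}) [Module F V] [IsScalarTower K F V] (he : (finrank K F).Prime)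
    (hs : 2 ≤ finrank F V) (h22 : ¬ (finrank F V = 2 ∧ finrank K F = 2))
    {φ : F →ₐ[K] R K V} (hφ : ∀ a v, φ a v = a • v) {S : Subgroup (Equiv.Perm (R K V))} (hSA : S ≤ RA K V)
    (hS : ∀ f ∈ S, ∀ a, ∃ a', f (φ a) = φ a') : Five S := by
  have hF : Finite F := Module.finite_of_finite K
  have hVf : Module.Finite F V := Module.Finite.of_restrictScalars_finite K F V
  have hVn : Nontrivial V := by
    rw [← Module.finrank_pos_iff_of_free (R := F)]
    omega
  obtain ⟨τ, hτ1, hτ2, hfix, hodd⟩ := exists_gal (K := K) (F := F) he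
  obtain ⟨γ, hγ⟩ := IsCyclic.exists_generator (α := Fˣ)
  have hγ' : ∀ ρ : F ≃+* F, ρ (γ : F) = γ → ∀ a, ρ a = a := by
    intro ρ h a
    by_cases ha : a = 0
    · rw [ha, map_zero]
    obtain ⟨k, hk⟩ := Subgroup.mem_zpowers_iff.1 (hγ (Units.mk0 a ha))
    have h1 : a = (γ : F) ^ k := by
      have := congrArg Units.val hk
      rw [Units.val_zpow_eq_zpow_val] at this
      exact this.symm
    rw [h1, map_zpow₀, h]
  set b := finBasis F V
  let x : Fin 4 → (R K V)ˣ := ![un (Y1_nil (b := b) (τ := τ)), un (Y2_nil (b := b) (τ := τ)),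
    un (Y3_nil (b := b) (τ := τ) (γ := γ)), 1]
  refine ⟨x, fun i => ?_, fun f hf hi => ?_⟩
  · fin_cases i
    · exact (congrArg _ (coe_un (Y1_nil (b := b) (τ := τ)))).trans (det_one_add Y1_nil)
    · exact (congrArg _ (coe_un (Y2_nil (b := b) (τ := τ)))).trans (det_one_add Y2_nil)
    · exact (congrArg _ (coe_un (Y3_nil (b := b) (τ := τ) (γ := γ)))).trans (det_one_add Y3_nil)
    · exact map_one _
  have k1 : Kp φ f (un (Y1_nil (b := b) (τ := τ))) := kp_of_mem hS (hi 0)
  have k2 : Kp φ f (un (Y2_nil (b := b) (τ := τ))) := kp_of_mem hS (hi 1)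
  have k3 : Kp φ f (un (Y3_nil (b := b) (τ := τ) (γ := γ))) := kp_of_mem hS (hi 2)
  obtain ⟨hf0, hfm⟩ := hSA hf
  obtain ⟨ρ, hρ⟩ := exists_rho hf0 hfm (hS f hf)
  have nu : ∀ {y : R K V}, IsNilpotent y → ¬ IsUnit y := fun hn hu => hu.not_isNilpotent hn
  have t1 : Ty φ τ (Y1 b τ) := Y_ty hφ
  have t2 : Ty φ τ (Y2 b τ) := Y_ty hφ
  have t3 : Ty φ τ (Y3 b τ γ) := Y_ty hφ
  rcases hfm with hfm | hfm
  · have ac : ∀ {y : R K V} (hn : IsNilpotent y), Ty φ τ y → Kp φ f (un hn) → f y = y := by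
      intro y hn ht hk
      rcases auto_cases hf0 hfm hρ hτ1 ht (coe_un hn) hk with h | ⟨-, h⟩
      · exact h
      · exact absurd (IsUnit.of_mul_eq_one _ h) (nu hn)
    have q1 := ac _ t1 k1
    have q2 := ac _ t2 k2
    have q3 := ac _ t3 k3
    obtain ⟨g, ⟨hg0, -⟩, hg⟩ := hSN K V Module.finrank_pos f ⟨hf0, hfm⟩
    obtain ⟨k, hk0, hk⟩ := semi_core b hs (fun h => by have := hτ2 h; omega) hfix hodd γ.ne_zero hγ' hg0
      (ρ := ρ) (fun a v => by
        rw [← hφ, ← hg, hρ, hφ]) (fun v => by rw [← hg, q1]) (fun v => by rw [← hg, q2]) (fun v => by rw [← hg, q3])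
    apply Equiv.ext
    intro X
    ext v
    have h1 := hg X (k⁻¹ • v)
    rw [hk, hk, smul_smul, mul_inv_cancel₀ hk0, one_smul, map_smul, smul_smul, mul_inv_cancel₀ hk0, one_smul] at h1
    exact h1
  · exfalso
    by_cases hττ : τ * τ = 1
    · have he2 := hτ2 hττ
      have q1 := anti_neg hf0 hfm hρ hτ1 hττ t1 (nu Y1_nil) (coe_un _) k1
      have q3 := anti_neg hf0 hfm hρ hτ1 hττ t3 (nu Y3_nil) (coe_un _) k3
      have h1 : f (Y3 b τ γ * Y1 b τ) = 0 := by rw [hfm, q1, q3, neg_mul_neg, Y1_Y3]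
      have hf00 : f 0 = 0 := by
        have := hf0 0 0
        rw [add_zero] at this
        exact left_eq_add.1 this
      have h2 : Y3 b τ γ * Y1 b τ = 0 := f.injective (h1.trans hf00.symm)
      have h3 : Y3 b τ γ (Y1 b τ (ee b 2)) = 0 := LinearMap.congr_fun h2 _
      rw [Y1_succ (by omega), Y3_one (by omega)] at h3
      exact smul_ne_zero γ.ne_zero (ee_ne_zero (by omega)) h3
    · refine anti_no hf0 hfm hρ hττ t1 ?_ (coe_un _) k1
      intro h
      have h1 : Y1 b τ (ee b 1) = 0 := by rw [h]; rfl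
      rw [Y1_succ (by omega)] at h1
      exact ee_ne_zero (by omega) h1

theorem c3a_aux' (hSN : StmtSN.{u, v}) (he : (finrank K F).Prime) (φ : F →ₐ[K] R K V)
    (h2 : 2 * finrank K F ≤ finrank K V) (h22 : ¬ (finrank K V = 4 ∧ finrank K F = 2))
    {S : Subgroup (Equiv.Perm (R K V))} (hSA : S ≤ RA K V)
    (hS : ∀ f ∈ S, ∀ a, ∃ a', f (φ a) = φ a') : Five S := by
  letI hEm : Module F V := Module.compHom V (φ : F →+* R K V)
  have hsm : ∀ (a : F) (v : V), a • v = φ a v := fun _ _ => rfl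
  haveI hT : IsScalarTower K F V := ⟨fun k a v => by rw [hsm, hsm, map_smul]; rfl⟩
  have hmul : finrank K F * finrank F V = finrank K V := Module.finrank_mul_finrank K F V
  refine c3a_aux hSN he ?_ ?_ (φ := φ) (fun a v => rfl) hSA hS
  · by_contra h
    have h1 : finrank F V ≤ 1 := by omega
    have h3 : 0 < finrank K F := he.pos
    have : finrank K F * finrank F V ≤ finrank K F * 1 := Nat.mul_le_mul_left _ h1
    omega
  · rintro ⟨h3, h4⟩
    rw [h3, h4] at hmul
    exact h22 ⟨hmul.symm, h4⟩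

/-- **L-C3a**: `StmtC3` for `dim V = e s`, `s ≥ 2`, `(e, s) ≠ (2, 2)` -/
theorem c3a (hSN : StmtSN.{u, v}) (S : Subgroup (Equiv.Perm (R K V))) (hSA : S ≤ RA K V)
    (E : Subalgebra K (R K V)) (hE : IsField E) (hp : (finrank K E).Prime) (hSE : ∀ f ∈ S, ∀ X ∈ E, f X ∈ E)
    (h2 : 2 * finrank K E ≤ finrank K V) (h22 : ¬ (finrank K V = 4 ∧ finrank K E = 2)) : Five S := by
  letI hEf : Field E := hE.toField
  have hfin : Module.Finite K E := inferInstance
  exact c3a_aux' hSN (F := E) hp E.val h2 h22 hSA fun f hf a => ⟨⟨f a, hSE f hf a a.2⟩, rfl⟩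

end

end Cfsg.Agent.H184.FC
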