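import Mathlib
import Cfsg.Agent.H184.FC.C3a
import Cfsg.Agent.H786.FC.Parts
import Cfsg.Agent.H277.FC.SN

/-!
# S5764, L-C3a in the form of `H786/FC/Parts.lean` (helper184)
-/

set_option autoImplicit false

namespace Cfsg.Agent.H184.FC

open Module Cfsg.Agent.H198.FC

universe u v

/-- **5360** -/
theorem stmtC3a : Cfsg.Agent.H786.FC.StmtC3a.{u, v} := by
  intro K _ _ V _ _ _ S hS _ _ E hE hp hSE h
  exact c3a Cfsg.Agent.H277.FC.stmtSN S hS E hE hp hSE h.1 h.2

end Cfsg.Agent.H184.FC
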